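import Cfsg.Agent.H5.C11.T

/-! The reduction step of the X-lemma. -/

set_option autoImplicit false
set_option linter.unusedSimpArgs false
set_option linter.unusedSectionVars false
set_option linter.unusedVariables false

namespace Cfsg.Agent.H5.C11

open Matrix Subgroup
open scoped Pointwise

variable {F : Type*} [Field F]

theorem inv2 (h2 : (2 : F) ≠ 0) {X : Matrix (Fin 2) (Fin 2) F} (h : X * X = 1) (d : X.det = 1) :
    X = 1 ∨ X = -1 := by
  rw [det_fin_two] at d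
  simp only [← Matrix.ext_iff, Fin.forall_fin_two, mul_apply, Fin.sum_univ_two, one_apply, neg_apply] at h ⊢
  simp at h ⊢
  obtain ⟨⟨a, b⟩, c, e⟩ := h
  have t : X 0 0 + X 1 1 ≠ 0 := fun t => h2 (by linear_combination X 0 0 * t - a - d)
  have b0 : X 0 1 = 0 := mul_left_cancel₀ t (by linear_combination b)
  have c0 : X 1 0 = 0 := mul_left_cancel₀ t (by linear_combination c)
  rw [b0] at a d
  rcases mul_self_eq_one_iff.1 (show X 0 0 * X 0 0 = 1 by linear_combination a) with k | k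
  · exact Or.inl ⟨⟨k, b0⟩, c0, by rw [k] at d; linear_combination d⟩
  · exact Or.inr ⟨⟨k, b0⟩, c0, by rw [k] at d; linear_combination -d⟩

theorem cent_y0 {X : Matrix (Fin 2) (Fin 2) F} (h : X * !![0, -1; 1, -1] = !![0, -1; 1, -1] * X) :
    ∃ a b : F, X = !![a, -b; b, a - b] := by
  simp [← Matrix.ext_iff, Fin.forall_fin_two, mul_apply, Fin.sum_univ_two, vecMul, dotProduct] at h
  refine ⟨X 0 0, X 1 0, ?_⟩
  ext i j; fin_cases i <;> fin_cases j <;> simp <;> grind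

theorem red2 [Finite F] (h2 : (2 : F) ≠ 0) (J0 : Subgroup (GL (Fin 2) F))
    (dt : ∀ β ∈ J0, β.1.det = 1) (ng : -1 ∉ J0) {y t : GL (Fin 2) F} (hy : y.1 = !![0, -1; 1, -1])
    (t2 : t * t = 1) (td : t.1.det = -1) (ny : ∀ β ∈ J0, y * β * y⁻¹ ∈ J0)
    (nt : ∀ β ∈ J0, t * β * t⁻¹ ∈ J0) (cm : t * y * t⁻¹ * y⁻¹ ∈ J0) :
    y ∈ J0 ∨ ∃ j ∈ J0, ∃ κ : F, 3 * κ ^ 2 = -1 ∧ (j * t * j⁻¹).1 = !![κ, -2 * κ; 2 * κ, -κ] := by
  have y3 : y ^ 3 = 1 := Units.ext (by
    rw [Units.val_pow_eq_pow_val, hy]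
    ext i j; fin_cases i <;> fin_cases j <;> simp [pow_succ, mul_apply, Fin.sum_univ_two])
  have yd : y.1.det = 1 := by rw [hy, det_fin_two_of]; ring
  have nyk : ∀ k : ℕ, ∀ β ∈ J0, y ^ k * β * (y ^ k)⁻¹ ∈ J0 := fun k => by
    induction k with
    | zero => simp
    | succ k ih => exact fun β hβ => by convert ny _ (ih β hβ) using 1; rw [pow_succ']; group
  have yi : ∀ k : ℕ, (y ^ k)⁻¹ = y ^ (2 * k) := fun k => by
    rw [inv_eq_iff_mul_eq_one, ← pow_add, show k + 2 * k = 3 * k by ring, pow_mul, y3, one_pow]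
  let J : Subgroup (GL (Fin 2) F) :=
    { carrier := {β | ∃ k : ℕ, y ^ k * β ∈ J0}
      one_mem' := ⟨0, by simp⟩
      mul_mem' := by
        rintro a b ⟨k, ha⟩ ⟨l, hb⟩
        exact ⟨l + k, by convert mul_mem (nyk l _ ha) hb using 1; rw [pow_add]; group⟩
      inv_mem' := by
        rintro a ⟨k, ha⟩
        refine ⟨2 * k, ?_⟩
        convert nyk (2 * k) _ (inv_mem ha) using 1
        rw [← yi]; group }
  have yJ : y ∈ J := ⟨2, by rw [← pow_succ, y3]; exact one_mem _⟩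
  have le : J0 ≤ J := fun β h => ⟨0, by simpa using h⟩
  have dJ : ∀ β ∈ J, β.1.det = 1 := by
    rintro β ⟨k, h⟩
    have := dt _ h
    rwa [Units.val_mul, det_mul, Units.val_pow_eq_pow_val, det_pow, yd, one_pow, one_mul] at this
  have tJ : ∀ β ∈ J, t * β * t⁻¹ ∈ J := by
    rintro β ⟨k, h⟩
    have : t * y * t⁻¹ ∈ J := by simpa using mul_mem (le cm) yJ
    convert mul_mem (inv_mem (pow_mem this k)) (le (nt _ h)) using 1
    rw [conj_pow]; group
  have odd : ¬ 2 ∣ Nat.card J := fun d => by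
    obtain ⟨x, hx⟩ := exists_prime_orderOf_dvd_card' 2 d
    have x2 : x.1.1 * x.1.1 = 1 := by
      rw [← Units.val_mul, ← coe_mul, ← sq, orderOf_dvd_iff_pow_eq_one.1 hx.dvd]; rfl
    rcases inv2 h2 x2 (dJ _ x.2) with e | e
    · rw [show x = 1 from Subtype.ext (Units.ext e)] at hx; simp at hx
    · obtain ⟨k, hk⟩ := x.2
      rw [show x.1 = -1 from Units.ext e] at hk
      have := pow_mem hk 3
      rw [mul_neg_one, Odd.neg_pow (by decide), ← pow_mul, mul_comm, pow_mul, y3, one_pow] at this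
      exact ng this
  have tn : t ∈ normalizer (J : Set (GL (Fin 2) F)) := mem_normalizer_fintype tJ
  let φ := J.normalizerMonoidHom ⟨t, tn⟩
  haveI := Fact.mk Nat.prime_three
  obtain ⟨P, hP⟩ := (IsPGroup.of_card_dvd_pow (p := 2) (n := 1) (G := zpowers φ) (by
    rw [Nat.card_zpowers]
    refine orderOf_dvd_of_pow_eq_one ?_
    rw [← map_pow, show (⟨t, tn⟩ : normalizer _) ^ 2 ^ 1 = 1 from Subtype.ext (by simpa [sq] using t2),
      map_one])).nonempty_fixed_point_of_prime_not_dvd_card (Sylow 3 J)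
    fun d => odd (d.trans ((Sylow.card_dvd_index default).trans (index_dvd_card _)))
  have hP' : ∀ x ∈ P, φ x ∈ P := fun x hx => by
    rw [← show φ • P = P from hP ⟨φ, mem_zpowers φ⟩]
    exact smul_mem_pointwise_smul x φ P.1 hx
  obtain ⟨T, hT⟩ := (IsPGroup.of_card_dvd_pow (p := 3) (n := 1) (G := zpowers (⟨y, yJ⟩ : J)) (by
    rw [Nat.card_zpowers]; exact orderOf_dvd_of_pow_eq_one (Subtype.ext y3))).exists_le_sylow
  obtain ⟨g, hg⟩ := MulAction.exists_smul_eq J T P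
  have m1 : g * ⟨y, yJ⟩ * g⁻¹ ∈ P := hg ▸ smul_mem_pointwise_smul _ (MulAut.conj g) T.1 (hT (mem_zpowers _))
  have y1 : y ≠ 1 := fun e => by simpa [e] using congrFun (congrFun hy 0) 0
  haveI : Nontrivial P := ⟨⟨⟨_, m1⟩, 1, fun e => y1 (by
    have : g * ⟨y, yJ⟩ * g⁻¹ = 1 := congrArg Subtype.val e
    exact congrArg Subtype.val (conj_eq_one_iff.1 this))⟩⟩
  haveI := P.isPGroup'.center_nontrivial
  obtain ⟨z, z1⟩ := exists_ne (1 : center P)
  obtain ⟨k, hk⟩ := (inv_mem g.2 : ∃ k : ℕ, y ^ k * g.1⁻¹ ∈ J0)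
  set j := y ^ k * g.1⁻¹ with hj
  have gy : g.1 * y * g.1⁻¹ = j⁻¹ * y * j := by rw [hj]; group
  have c1 : j⁻¹ * y * j * z.1.1.1 = z.1.1.1 * (j⁻¹ * y * j) :=
    gy ▸ congrArg (fun x : P => x.1.1) (mem_center_iff.1 z.2 ⟨_, m1⟩)
  have c2 : t * (j⁻¹ * y * j) * t⁻¹ * z.1.1.1 = z.1.1.1 * (t * (j⁻¹ * y * j) * t⁻¹) :=
    gy ▸ congrArg (fun x : P => x.1.1) (mem_center_iff.1 z.2 ⟨_, hP' _ m1⟩)
  set s := j * t * j⁻¹ with hs
  set v := j * z.1.1.1 * j⁻¹ with hv
  have s2 : s * s = 1 := by rw [hs, conj_mul, t2]; simp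
  have sd : s.1.det = -1 := by rw [hs, Units.val_mul, Units.val_mul, det_units_conj, td]
  have d1 : v * y = y * v := by
    calc v * y = j * (z.1.1.1 * (j⁻¹ * y * j)) * j⁻¹ := by rw [hv]; group
      _ = _ := by rw [← c1, hv]; group
  have d2 : v * (s * y * s⁻¹) = s * y * s⁻¹ * v := by
    calc v * (s * y * s⁻¹) = j * (z.1.1.1 * (t * (j⁻¹ * y * j) * t⁻¹)) * j⁻¹ := by rw [hv, hs]; group
      _ = _ := by rw [← c2, hv, hs]; group
  have vJ : v ∈ J := mul_mem (mul_mem (le hk) z.1.1.2) (inv_mem (le hk))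
  obtain ⟨a, b, e⟩ := cent_y0 (X := v.1) (by rw [← hy, ← Units.val_mul, d1, Units.val_mul])
  have b0 : b ≠ 0 := by
    rintro rfl
    have vd := dJ v vJ
    rw [e, det_fin_two_of] at vd
    have v2 : v * v = 1 := Units.ext (by
      rw [Units.val_mul, e]
      ext i j; fin_cases i <;> fin_cases j <;> simp [mul_apply, Fin.sum_univ_two] <;>
        linear_combination vd)
    have o := orderOf_dvd_natCard (⟨v, vJ⟩ : J)
    rw [orderOf_eq_prime (p := 2) (Subtype.ext (by simpa [sq] using v2)) (fun e => z1 (Subtype.ext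
      (Subtype.ext (Subtype.ext (conj_eq_one_iff.1 (congrArg Subtype.val e))))))] at o
    exact odd o
  obtain ⟨a', b', e'⟩ := cent_y0 (X := (s * y * s⁻¹).1) (by
    have := congrArg Units.val d2
    rw [Units.val_mul v, Units.val_mul _ v, e, show !![a, -b; b, a - b] = a • 1 + b • !![0, -1; 1, -1] by
      ext i j; fin_cases i <;> fin_cases j <;> simp [sub_eq_add_neg], add_mul, mul_add, smul_mul_assoc,
      smul_mul_assoc, mul_smul_comm, mul_smul_comm, one_mul, mul_one, add_right_inj] at this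
    exact (smul_right_injective _ b0 this).symm)
  have si : s⁻¹ = s := inv_eq_of_mul_eq_one_right s2
  have tr : 2 * a' - b' = -1 := by
    have := trace_units_conj s y.1
    rw [← Units.val_mul, ← Units.val_mul, e', hy, trace_fin_two_of, trace_fin_two_of] at this
    linear_combination this
  have bb : b' * b' = 1 := by
    have k1 : (s * y * s⁻¹).1 = a' • 1 + b' • y.1 := by
      rw [e', hy]; ext i j; fin_cases i <;> fin_cases j <;> simp [sub_eq_add_neg]
    have k2 : y.1 = s.1 * (s * y * s⁻¹).1 * (s⁻¹).1 := by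
      rw [← Units.val_mul, ← Units.val_mul, si, show s * (s * y * s) * s = s * s * y * (s * s) by
        simp only [mul_assoc], s2, one_mul, mul_one]
    rw [k1, mul_add, add_mul, mul_smul_comm, mul_smul_comm, smul_mul_assoc, smul_mul_assoc, mul_one,
      Units.mul_inv, ← Units.val_mul, ← Units.val_mul, e', hy] at k2
    simpa using (congrFun (congrFun k2 1) 0).symm
  rcases mul_self_eq_one_iff.1 bb with rfl | rfl
  · obtain rfl : a' = 0 := mul_left_cancel₀ h2 (by linear_combination tr)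
    refine Or.inr ⟨j, hk, ?_⟩
    have : s * y * s⁻¹ = y := Units.ext (by rw [e', hy]; simp)
    obtain ⟨c, d, e2⟩ := cent_y0 (X := s.1) (by
      rw [← hy, ← Units.val_mul, mul_inv_eq_iff_eq_mul.1 this, Units.val_mul])
    have q := congrArg Units.val s2
    rw [e2, det_fin_two_of] at sd
    rw [Units.val_mul, e2] at q
    have q1 := congrFun (congrFun q 0) 0
    have q2 := congrFun (congrFun q 1) 0
    simp [mul_apply, Fin.sum_univ_two] at q1 q2
    have : d = 2 * c := by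
      by_contra z
      have d0 : d = 0 := mul_left_cancel₀ (sub_ne_zero.2 z) (by linear_combination -q2)
      exact h2 (by rw [d0] at q1 sd; linear_combination sd - q1)
    subst this
    refine ⟨c, by linear_combination sd, ?_⟩
    rw [← hs, e2]; ext i j; fin_cases i <;> fin_cases j <;> simp; ring
  · obtain rfl : a' = -1 := mul_left_cancel₀ h2 (by linear_combination tr)
    left
    have k1 : s * y * s⁻¹ = y * y := Units.ext (by
      rw [e', Units.val_mul, hy]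
      ext i j; fin_cases i <;> fin_cases j <;> simp [mul_apply, Fin.sum_univ_two])
    have := mul_mem (mul_mem (mul_mem hk (nt _ (mul_mem (inv_mem hk) (ny _ hk)))) cm) (ny _ (inv_mem hk))
    rwa [show j * (t * (j⁻¹ * (y * j * y⁻¹)) * t⁻¹) * (t * y * t⁻¹ * y⁻¹) * (y * j⁻¹ * y⁻¹) =
      s * y * s⁻¹ * y⁻¹ by rw [hs]; group, k1, mul_inv_cancel_right] at this

/-- block matrices -/
def bl (a b c : F) (β : Matrix (Fin 2) (Fin 2) F) : Matrix (Fin 5) (Fin 5) F :=
  !![a, 0, 0, 0, 0; 0, b, 0, 0, 0; 0, 0, c, 0, 0; 0, 0, 0, β 0 0, β 0 1; 0, 0, 0, β 1 0, β 1 1]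

theorem bl_mul (a b c a' b' c' : F) (β β' : Matrix (Fin 2) (Fin 2) F) :
    bl a b c β * bl a' b' c' β' = bl (a * a') (b * b') (c * c') (β * β') := by
  ext i j; fin_cases i <;> fin_cases j <;> simp [bl, mul_apply, Fin.sum_univ_succ]

theorem bl_one : bl (1 : F) 1 1 1 = 1 := by
  ext i j; fin_cases i <;> fin_cases j <;> simp [bl]

theorem bl_inj {a b c a' b' c' : F} {β β' : Matrix (Fin 2) (Fin 2) F} (h : bl a b c β = bl a' b' c' β') :
    a = a' ∧ b = b' ∧ c = c' ∧ β = β' := by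
  simp only [← Matrix.ext_iff, Fin.forall_fin_succ, bl] at h ⊢
  simp at h ⊢
  tauto

theorem bl_pow (a : F) (β : Matrix (Fin 2) (Fin 2) F) (m : ℕ) :
    bl a a a β ^ m = bl (a ^ m) (a ^ m) (a ^ m) (β ^ m) := by
  induction m with
  | zero => simp [bl_one]
  | succ m ih => rw [pow_succ, ih, bl_mul, ← pow_succ, ← pow_succ]

def blH : Matrix (Fin 2) (Fin 2) F →* Matrix (Fin 5) (Fin 5) F where
  toFun := bl 1 1 1
  map_one' := bl_one
  map_mul' β β' := by rw [bl_mul, mul_one]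

theorem bl_cy (a b c : F) (β : Matrix (Fin 2) (Fin 2) F) :
    !![0, 0, 1, 0, 0; 1, 0, 0, 0, 0; 0, 1, 0, 0, 0; 0, 0, 0, 0, -1; 0, 0, 0, 1, -1] * bl a b c β *
      !![0, 1, 0, 0, 0; 0, 0, 1, 0, 0; 1, 0, 0, 0, 0; 0, 0, 0, -1, 1; 0, 0, 0, -1, 0] =
    bl c a b (!![0, -1; 1, -1] * β * !![-1, 1; -1, 0]) := by
  ext i j; fin_cases i <;> fin_cases j <;>
    simp [bl, mul_apply, Fin.sum_univ_succ, vecMul, dotProduct, add_comm]

theorem bl_yy : (!![0, 0, 1, 0, 0; 1, 0, 0, 0, 0; 0, 1, 0, 0, 0; 0, 0, 0, 0, -1; 0, 0, 0, 1, -1] *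
    !![0, 1, 0, 0, 0; 0, 0, 1, 0, 0; 1, 0, 0, 0, 0; 0, 0, 0, -1, 1; 0, 0, 0, -1, 0] :
      Matrix (Fin 5) (Fin 5) F) = 1 := by
  ext i j; fin_cases i <;> fin_cases j <;> simp [mul_apply, Fin.sum_univ_succ]

theorem bl_diag (a b c : F) : bl a b c 1 = diagonal ![a, b, c, 1, 1] := by
  ext i j; fin_cases i <;> fin_cases j <;> simp [bl]

theorem bl_shape (h2 : (2 : F) ≠ 0) {X : Matrix (Fin 5) (Fin 5) F}
    (k1 : X * bl 1 (-1) (-1) 1 = bl 1 (-1) (-1) 1 * X) (k2 : X * bl (-1) 1 (-1) 1 = bl (-1) 1 (-1) 1 * X) :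
    ∃ a b d β, X = bl a b d β := by
  have n : ∀ a : F, (a = -a ↔ a = 0) ∧ (-a = a ↔ a = 0) := fun a =>
    ⟨⟨fun e => mul_left_cancel₀ h2 (by linear_combination e), fun e => by simp [e]⟩,
      ⟨fun e => mul_left_cancel₀ h2 (by linear_combination -e), fun e => by simp [e]⟩⟩
  simp only [bl_diag, ← Matrix.ext_iff, mul_diagonal, diagonal_mul] at k1 k2
  simp [Fin.forall_fin_succ, n] at k1 k2
  refine ⟨X 0 0, X 1 1, X 2 2, !![X 3 3, X 3 4; X 4 3, X 4 4], ?_⟩
  ext i j; fin_cases i <;> fin_cases j <;> simp [bl, k1, k2]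

theorem bl_smul (s a b c : F) (β : Matrix (Fin 2) (Fin 2) F) :
    s • bl a b c β = bl (s * a) (s * b) (s * c) (s • β) := by
  ext i j; fin_cases i <;> fin_cases j <;> simp [bl]

def y0 : GL (Fin 2) F := ⟨!![0, -1; 1, -1], !![-1, 1; -1, 0],
  by ext i j; fin_cases i <;> fin_cases j <;> simp [mul_apply, Fin.sum_univ_two],
  by ext i j; fin_cases i <;> fin_cases j <;> simp [mul_apply, Fin.sum_univ_two]⟩

/-- the hypotheses of the reduction -/
structure RS {C : Type*} [Group C] (π : C →* GL (Fin 5) F) (σ f z y : C) : Prop where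
  finF : Finite F
  h2 : (2 : F) ≠ 0
  cen : ∀ c, c * σ = σ * c
  σ1 : σ ≠ 1
  πσ : π σ = 1
  kerU : ∀ c, π c = 1 → c = 1 ∨ c = σ
  scU : ∀ c, (π c).1 ≠ -1
  hf : (π f).1 = bl 1 (-1) (-1) 1
  hz : (π z).1 = bl (-1) 1 (-1) 1
  hy : (π y).1 = !![0, 0, 1, 0, 0; 1, 0, 0, 0, 0; 0, 1, 0, 0, 0; 0, 0, 0, 0, -1; 0, 0, 0, 1, -1]
  e12 : f * z = σ * z * f
  hα : ∀ k, (π k).1 ≠ bl 1 1 1 (-1) ∧ (π k).1 ≠ bl (-1) (-1) (-1) 1
  hγ : ∀ k, (π k).1 ≠ bl 1 1 1 !![0, -1; 1, -1]
  hβ : ∀ (ρ : C) (s κ : F), ρ * f = f * ρ → ρ * z = z * ρ → ρ * ρ = 1 ∨ ρ * ρ = σ → s = 1 ∨ s = -1 →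
    3 * κ ^ 2 = -1 → (π ρ).1 ≠ s • bl 1 1 1 !![κ, -2 * κ; 2 * κ, -κ]

def YY {C : Type*} [Group C] (f z : C) : Subgroup C := centralizer {f} ⊓ centralizer {z}

theorem mY {C : Type*} [Group C] {f z c : C} : c ∈ YY f z ↔ c * f = f * c ∧ c * z = z * c := by
  simp only [YY, mem_inf, mem_centralizer_singleton_iff]

namespace RS

variable {C : Type*} [Group C] {π : C →* GL (Fin 5) F} {σ f z y : C} (h : RS π σ f z y)
include h

theorem tr {a b c : C} (e : π a = π b) (k : Commute c b) : Commute c a := by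
  rcases h.kerU (a * b⁻¹) (by rw [map_mul, map_inv, e, mul_inv_cancel]) with e | e
  · rwa [mul_inv_eq_one.1 e]
  · rw [mul_inv_eq_iff_eq_mul.1 e]; exact Commute.mul_right (h.cen c) k

theorem cy {k : C} {a b c : F} {β : Matrix (Fin 2) (Fin 2) F} (e : (π k).1 = bl a b c β) :
    (π (y * k * y⁻¹)).1 = bl c a b ((y0 (F := F)).1 * β * ((y0 (F := F))⁻¹).1) := by
  rw [map_mul, map_mul, Units.val_mul, Units.val_mul, map_inv,
    Units.inv_eq_of_mul_eq_one_right (h.hy ▸ bl_yy), h.hy, e, bl_cy]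
  rfl

theorem πfz : (π (f * z)).1 = bl (-1) (-1) 1 1 := by
  rw [map_mul, Units.val_mul, h.hf, h.hz, bl_mul]; simp

theorem nY {k : C} (hk : k ∈ YY f z) : y * k * y⁻¹ ∈ YY f z := by
  obtain ⟨k1, k2⟩ := mY.1 hk
  have a1 : π (y * (f * z) * y⁻¹) = π f := Units.ext (by rw [h.cy h.πfz, h.hf]; simp)
  have a2 : π (y * f * y⁻¹) = π z := Units.ext (by rw [h.cy h.hf, h.hz]; simp)
  have b : ∀ {a}, Commute k a → Commute (y * k * y⁻¹) (y * a * y⁻¹) := fun h => h.map (MulAut.conj y)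
  exact mY.2 ⟨h.tr a1.symm (b (Commute.mul_right k1 k2)), h.tr a2.symm (b k1)⟩

theorem scal {c : C} (cf : c * f = f * c) (cz : c * z = z * c) {e1 e2 e3 : F} (q1 : e1 * e1 = 1)
    (q2 : e2 * e2 = 1) (q3 : e3 * e3 = 1) (hc : (π c).1 = bl e1 e2 e3 ((e1 * e2 * e3) • 1)) :
    c = 1 ∨ c = σ := by
  have hs : e1 * e2 * e3 = 1 ∨ e1 * e2 * e3 = -1 := mul_self_eq_one_iff.1 (by
    linear_combination e2 * e2 * e3 * e3 * q1 + e3 * e3 * q2 + q3)
  have fz : ¬ Commute f z := fun e => h.σ1 (by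
    have e12 := h.e12
    rw [e.eq, mul_assoc] at e12
    exact (mul_right_cancel (e12.symm.trans (one_mul _).symm)))
  have fin : ∀ (q : C) (s : F), s = 1 ∨ s = -1 → (π c).1 = s • (π q).1 →
      Commute q f ∧ Commute q z ∧ (q = 1 → c = 1 ∨ c = σ) := fun q s hs e => by
    have : (π (c * q⁻¹)).1 = s • 1 := by
      rw [map_mul, map_inv, Units.val_mul, e, smul_mul_assoc, Units.mul_inv]
    rcases hs with rfl | rfl
    · have e' : π q = π c := Units.ext (by rw [e, one_smul])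
      exact ⟨(h.tr e' (Commute.symm cf)).symm, (h.tr e' (Commute.symm cz)).symm, fun q1 =>
        h.kerU c (by rw [← e', q1, map_one])⟩
    · exact absurd (by rw [this]; simp) (h.scU (c * q⁻¹))
  have A := fun e => (fin 1 _ hs e).2.2 rfl
  have B := fun e => fz (fin f _ hs e).2.1
  have D := fun e => fz (fin z _ hs e).1.symm
  have E := fun e => fz (show Commute f z from by
    have := (fin (f * z) _ hs e).1.eq
    rw [mul_assoc] at this
    exact (mul_left_cancel this).symm)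
  rw [map_one, Units.val_one, ← bl_one] at A
  rw [h.hf] at B
  rw [h.hz] at D
  rw [h.πfz] at E
  rw [bl_smul, hc] at A B D E
  rcases mul_self_eq_one_iff.1 q1 with rfl | rfl <;> rcases mul_self_eq_one_iff.1 q2 with rfl | rfl <;>
    rcases mul_self_eq_one_iff.1 q3 with rfl | rfl
  exacts [A (by simp), (E (by simp)).elim, (D (by simp)).elim, (B (by simp)).elim,
    (B (by simp)).elim, (D (by simp)).elim, (E (by simp)).elim, A (by simp)]

theorem refl {ρ : C} (ρY : ρ ∈ YY f z) {s : F} (ss : s = 1 ∨ s = -1) {r : GL (Fin 2) F}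
    (hρ : (π ρ).1 = bl s s s r.1) (m2 : r * r = 1) (dm : r.1.det = -1) : False := by
  haveI := h.finF
  have s2 : s * s = 1 := mul_self_eq_one_iff.2 ss
  have ri : r⁻¹ = r := inv_eq_of_mul_eq_one_right m2
  have ρi : (π ρ⁻¹).1 = bl s s s r.1 := by
    rw [map_inv]
    refine Units.inv_eq_of_mul_eq_one_right ?_
    rw [hρ, bl_mul, s2, ← Units.val_mul, m2, Units.val_one, bl_one]
  let J0 : Subgroup (GL (Fin 2) F) := ((YY f z).map π).comap (Units.map blH) ⊓ GeneralLinearGroup.det.ker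
  have mJ : ∀ {β : GL (Fin 2) F}, β ∈ J0 ↔ (∃ k ∈ YY f z, (π k).1 = bl 1 1 1 β.1) ∧ β.1.det = 1 :=
    fun {β} => and_congr (exists_congr fun k => and_congr Iff.rfl Units.ext_iff) Units.ext_iff
  rcases red2 h.h2 J0 (fun β h => (mJ.1 h).2) (fun k => let ⟨⟨k, _, e⟩, _⟩ := mJ.1 k; (h.hα k).1 e)
    (y := y0) (t := r) rfl m2 dm (fun β k => by
      obtain ⟨⟨k, hk, e⟩, d⟩ := mJ.1 k
      exact mJ.2 ⟨⟨_, h.nY hk, h.cy e⟩, by rw [Units.val_mul, Units.val_mul, det_units_conj, d]⟩)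
    (fun β k => by
      obtain ⟨⟨k, hk, e⟩, d⟩ := mJ.1 k
      refine mJ.2 ⟨⟨_, mul_mem (mul_mem ρY hk) (inv_mem ρY), ?_⟩, by
        rw [Units.val_mul, Units.val_mul, det_units_conj, d]⟩
      rw [map_mul, map_mul, Units.val_mul, Units.val_mul, ρi, hρ, e, bl_mul, bl_mul, mul_one, s2, ri]
      rfl)
    (mJ.2 ⟨⟨_, mul_mem ρY (h.nY (inv_mem ρY)), by
      rw [map_mul, Units.val_mul, h.cy ρi, hρ, bl_mul, s2, ri]; simp only [Units.val_mul, mul_assoc]⟩, by
      rw [Units.val_mul, det_mul, Units.val_mul, Units.val_mul, det_units_conj, ← det_mul, Units.mul_inv,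
        det_one]⟩) with e | ⟨j, hj, κ, k1, k2⟩
  · obtain ⟨⟨k, -, e⟩, -⟩ := mJ.1 e
    exact h.hγ k e
  · obtain ⟨⟨k, hk, e⟩, -⟩ := mJ.1 hj
    have ki : (π k⁻¹).1 = bl 1 1 1 (j⁻¹).1 := by
      rw [map_inv]
      refine Units.inv_eq_of_mul_eq_one_right ?_
      rw [e, bl_mul, mul_one, Units.mul_inv, bl_one]
    have a := mY.1 (mul_mem (mul_mem hk ρY) (inv_mem hk))
    have b : (π (k * ρ * k⁻¹)).1 = bl s s s !![κ, -2 * κ; 2 * κ, -κ] := by
      rw [map_mul, map_mul, Units.val_mul, Units.val_mul, ki, hρ, e, bl_mul, bl_mul, mul_one, one_mul, ← k2]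
      rfl
    refine h.hβ _ s (s * κ) a.1 a.2 (h.kerU _ ?_) ss (by linear_combination s * s * k1 - s2) ?_
    · rw [conj_mul, map_mul, map_mul, show π (ρ * ρ) = 1 from Units.ext (by
        rw [map_mul, Units.val_mul, hρ, bl_mul, s2, ← Units.val_mul, m2, Units.val_one, bl_one]; rfl)]
      simp
    · rw [b, bl_smul, mul_one]
      congr 1
      rcases ss with rfl | rfl <;> simp

theorem refl' {w : C} (wY : w ∈ YY f z) {s : F} (ss : s = 1 ∨ s = -1) {t' : GL (Fin 2) F}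
    (hw : (π w).1 = bl s s s t'.1) (d' : t'.1.det = -1) : False := by
  haveI := h.finF
  obtain ⟨m, hm⟩ : Even (orderOf t') := by
    by_contra o
    have := congrArg (fun x : GL (Fin 2) F => x.1.det) (pow_orderOf_eq_one t')
    simp only [Units.val_pow_eq_pow_val, det_pow, d', (Nat.not_even_iff_odd.1 o).neg_one_pow,
      Units.val_one, det_one] at this
    exact h.h2 (by linear_combination -this)
  have m0 := orderOf_pos t'
  have m1 : t' ^ m ≠ 1 := pow_ne_one_of_lt_orderOf (by omega) (by omega)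
  have m2 : t' ^ m * t' ^ m = 1 := by rw [← pow_add, ← hm, pow_orderOf_eq_one]
  have hρ : (π (w ^ m)).1 = bl (s ^ m) (s ^ m) (s ^ m) (t' ^ m).1 := by
    rw [map_pow, Units.val_pow_eq_pow_val, hw, bl_pow, Units.val_pow_eq_pow_val]
  have dm : (t' ^ m).1.det = (-1) ^ m := by rw [Units.val_pow_eq_pow_val, det_pow, d']
  rcases Nat.even_or_odd m with o | o
  · rw [o.neg_one_pow] at dm
    rcases inv2 h.h2 (congrArg Units.val m2) dm with e | e
    · exact m1 (Units.ext e)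
    · exact (h.hα (w ^ m)).1 (by rw [hρ, e]; rcases ss with rfl | rfl <;> simp [o.neg_one_pow])
  rw [o.neg_one_pow] at dm
  have sm : s ^ m = s := by rcases ss with rfl | rfl <;> simp [o.neg_one_pow]
  rw [sm] at hρ
  exact h.refl (pow_mem wY m) ss hρ m2 dm

/-- the reduction -/
theorem red (c : C) (cf : c * f = f * c) (cz : c * z = z * c) (c2 : c * c = 1 ∨ c * c = σ) :
    c = 1 ∨ c = σ := by
  obtain ⟨e1, e2, e3, τ, hc⟩ := bl_shape h.h2 (X := (π c).1)
    (by rw [← h.hf, ← Units.val_mul, ← map_mul, cf, map_mul, Units.val_mul])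
    (by rw [← h.hz, ← Units.val_mul, ← map_mul, cz, map_mul, Units.val_mul])
  have cY : c ∈ YY f z := mY.2 ⟨cf, cz⟩
  have πc : (π c).1 * (π c).1 = 1 := by
    rw [← Units.val_mul, ← map_mul]
    rcases c2 with e | e <;> simp [e, h.πσ]
  rw [hc, bl_mul, ← bl_one] at πc
  obtain ⟨q1, q2, q3, q4⟩ := bl_inj πc
  obtain ⟨t, rfl⟩ : ∃ t : GL (Fin 2) F, t.1 = τ := ⟨⟨τ, τ, q4, q4⟩, rfl⟩
  have wY := mul_mem (mul_mem cY (h.nY cY)) (h.nY (h.nY cY))
  have hw : (π (c * (y * c * y⁻¹) * (y * (y * c * y⁻¹) * y⁻¹))).1 =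
      bl (e1 * e2 * e3) (e1 * e2 * e3) (e1 * e2 * e3)
        (t * (y0 * t * y0⁻¹) * (y0 * (y0 * t * y0⁻¹) * y0⁻¹)).1 := by
    rw [map_mul, map_mul, Units.val_mul, Units.val_mul, h.cy (h.cy hc), h.cy hc, hc, bl_mul, bl_mul]
    congr 1 <;> ring
  have ss : e1 * e2 * e3 = 1 ∨ e1 * e2 * e3 = -1 := mul_self_eq_one_iff.1 (by
    linear_combination e2 * e2 * e3 * e3 * q1 + e3 * e3 * q2 + q3)
  rcases mul_self_eq_one_iff.1 (show t.1.det * t.1.det = 1 by rw [← det_mul, q4, det_one]) with dd | dd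
  · refine h.scal cf cz q1 q2 q3 ?_
    rw [hc]
    congr 1
    rcases inv2 h.h2 q4 dd with e | e <;> rcases ss with e' | e' <;> rw [e'] at hw ⊢
    · simp [e]
    · exact absurd (by rw [hw, show t = 1 from Units.ext e]; simp) (h.hα _).2
    · exact absurd (by rw [hw, show t = -1 from Units.ext e]; simp) (h.hα _).1
    · simp [e]
  · refine (h.refl' wY ss hw ?_).elim
    have k : ∀ x : GL (Fin 2) F, (y0 * x * y0⁻¹).1.det = x.1.det := fun x => det_units_conj _ _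
    rw [Units.val_mul, Units.val_mul, det_mul, det_mul, k (y0 * t * y0⁻¹), k t, dd]; ring

end RS

end Cfsg.Agent.H5.C11
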